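import Mathlib
import Cfsg.Prelude.Def_LinearParabolics
import Cfsg.Agent.Lib.SplitBN.TypeA
import Cfsg.Agent.Lib.Char.More

/-!
Double cosets of parabolic subgroups of `GL_n` and of Young subgroups of `S_n`: both are
counted by matrices of natural numbers with prescribed row and column sums.
-/

set_option autoImplicit false

namespace H64.GC

open Matrix Finset Cfsg

theorem inner_eq_card {G : Type*} [Group G] [Fintype G] (H K : Subgroup G) {W T : Type*}
    (ρ : W → G) (τ : W → T) (h1 : ∀ g, ∃ w, ∃ h ∈ H, ∃ k ∈ K, g = h * ρ w * k)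
    (h2 : ∀ w w', τ w = τ w' ↔ ∃ h ∈ H, ∃ k ∈ K, ρ w' = h * ρ w * k)
    (hτ : Function.Surjective τ) :
    classInner (fixedPointCharacter H) (fixedPointCharacter K) = Nat.card T := by
  refine (H6.classInner_fixedBy (G ⧸ H) (G ⧸ K)).trans ?_
  congr 1
  let f : W → MulAction.orbitRel.Quotient G ((G ⧸ H) × (G ⧸ K)) := fun w =>
    Quotient.mk _ (((1 : G) : G ⧸ H), (ρ w : G ⧸ K))
  have hf : Function.Surjective f := by
    rintro ⟨⟨x⟩, ⟨y⟩⟩
    obtain ⟨w, h, hh, k, hk, e⟩ := h1 (x⁻¹ * y)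
    refine ⟨w, Quotient.sound ⟨h⁻¹ * x⁻¹, Prod.ext ?_ ?_⟩⟩
    · change ((h⁻¹ * x⁻¹ * x : G) : G ⧸ H) = (1 : G)
      rw [QuotientGroup.eq]; simpa using hh
    · change ((h⁻¹ * x⁻¹ * y : G) : G ⧸ K) = (ρ w : G)
      rw [QuotientGroup.eq, mul_assoc, e]; simpa [mul_assoc] using hk
  have hk : Setoid.ker f = Setoid.ker τ := by
    ext w w'
    rw [Setoid.ker_def, Setoid.ker_def, h2]
    constructor
    · intro h
      obtain ⟨g, hg⟩ := Quotient.exact h
      have a1 : ((g * 1 : G) : G ⧸ H) = (1 : G) := congrArg Prod.fst hg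
      have a2 : ((g * ρ w' : G) : G ⧸ K) = (ρ w : G) := congrArg Prod.snd hg
      rw [QuotientGroup.eq] at a1 a2
      exact ⟨g⁻¹, by simpa using a1, _, K.inv_mem a2, by group⟩
    · rintro ⟨h, hh, k, hk, e⟩
      refine Quotient.sound ⟨h⁻¹, Prod.ext ?_ ?_⟩
      · change ((h⁻¹ * 1 : G) : G ⧸ H) = (1 : G)
        rw [QuotientGroup.eq]; simpa using hh
      · change ((h⁻¹ * ρ w' : G) : G ⧸ K) = (ρ w : G)
        rw [QuotientGroup.eq, e]; simpa [mul_assoc] using hk
  rw [← Nat.card_congr (Setoid.quotientKerEquivOfSurjective f hf),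
    ← Nat.card_congr (Setoid.quotientKerEquivOfSurjective τ hτ), hk]

section

variable {ι κ : Type*} [Fintype ι] [DecidableEq ι] {F : Type*} [Field F]

variable (F) in
/-- Permutation matrices. -/
noncomputable def pm : Equiv.Perm ι →* GL ι F := MonoidHom.toHomUnits Matrix.permMatrixHom

lemma pm_apply (σ : Equiv.Perm ι) (i j : ι) : (pm F σ).1 i j = if i = σ j then 1 else 0 := by
  change (σ⁻¹).permMatrix F i j = _
  simp [PEquiv.toMatrix_apply, Equiv.symm_apply_eq]

lemma pm_mul (σ : Equiv.Perm ι) (A : Matrix ι ι F) (i j : ι) :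
    ((pm F σ).1 * A) i j = A (σ⁻¹ i) j := by
  simp [mul_apply, pm_apply, ← Equiv.Perm.inv_eq_iff_eq]

lemma mul_pm (σ : Equiv.Perm ι) (A : Matrix ι ι F) (i j : ι) :
    (A * (pm F σ).1) i j = A i (σ j) := by
  simp [mul_apply, pm_apply]

variable [LinearOrder κ]

variable (F) in
/-- Block triangular invertible matrices. -/
def Par (b : ι → κ) : Subgroup (GL ι F) where
  carrier := {g | g.1.BlockTriangular b}
  mul_mem' ha hb := ha.mul hb
  one_mem' := blockTriangular_one
  inv_mem' := fun {a} ha => by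
    change (a⁻¹).1.BlockTriangular b
    have : Invertible a.1 := a.invertible
    rw [Matrix.coe_units_inv]
    exact Matrix.blockTriangular_inv_of_blockTriangular ha

lemma mem_Par {b : ι → κ} {g : GL ι F} : g ∈ Par F b ↔ g.1.BlockTriangular b := Iff.rfl

omit [Fintype ι] [DecidableEq ι] [LinearOrder κ] in
/-- Young subgroups. -/
def Yg (b : ι → κ) : Subgroup (Equiv.Perm ι) where
  carrier := {σ | ∀ i, b (σ i) = b i}
  mul_mem' := fun {a c} ha hc i => (ha (c i)).trans (hc i)
  one_mem' := fun _ => rfl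
  inv_mem' := fun {a} ha i => by simpa using (ha (a⁻¹ i)).symm

lemma pm_mem_Par {b : ι → κ} {σ : Equiv.Perm ι} (h : σ ∈ Yg b) : pm F σ ∈ Par F b := by
  intro i j hij
  rw [pm_apply, if_neg]
  rintro rfl
  exact hij.ne' (h j)

/-- The diagonal projection onto a set of coordinates. -/
def pr (F : Type*) [Field F] (P : ι → Prop) [DecidablePred P] : Matrix ι ι F :=
  diagonal fun i => if P i then 1 else 0

lemma rank_le {b c : ι → κ} (P Q : κ → Prop) [DecidablePred P] [DecidablePred Q]
    (hP : ∀ x y, x ≤ y → P x → P y) (hQ : ∀ x y, x ≤ y → Q y → Q x) {p r : GL ι F}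
    (hp : p ∈ Par F b) (hr : r ∈ Par F c) (A : Matrix ι ι F) :
    (pr F (fun i => P (b i)) * (p.1 * A * r.1) * pr F fun i => Q (c i)).rank ≤
      (pr F (fun i => P (b i)) * A * pr F fun i => Q (c i)).rank := by
  have e1 : pr F (fun i => P (b i)) * p.1 =
      pr F (fun i => P (b i)) * p.1 * pr F fun i => P (b i) := by
    ext i j
    simp only [pr, diagonal_mul, mul_diagonal]
    split_ifs with h1 h2 h2
    · simp
    · rw [hp (not_le.mp fun h => h2 (hP _ _ h h1))]; simp
    · simp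
    · simp
  have e2 : r.1 * pr F (fun i => Q (c i)) =
      pr F (fun i => Q (c i)) * (r.1 * pr F fun i => Q (c i)) := by
    ext i j
    simp only [pr, diagonal_mul, mul_diagonal]
    split_ifs with h1 h2 h2
    · simp
    · rw [hr (not_le.mp fun h => h2 (hQ _ _ h h1))]; simp
    · simp
    · simp
  have : pr F (fun i => P (b i)) * (p.1 * A * r.1) * pr F (fun i => Q (c i)) =
      pr F (fun i => P (b i)) * p.1 * ((pr F (fun i => P (b i)) * A * pr F fun i => Q (c i)) *
        (r.1 * pr F fun i => Q (c i))) := by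
    calc _ = pr F (fun i => P (b i)) * p.1 * A * (r.1 * pr F fun i => Q (c i)) := by
          simp only [Matrix.mul_assoc]
      _ = _ := by
          conv_lhs => rw [e1, e2]
          simp only [Matrix.mul_assoc]
  rw [this]
  exact (rank_mul_le_right _ _).trans (rank_mul_le_left _ _)

lemma rank_pm (P Q : ι → Prop) [DecidablePred P] [DecidablePred Q] (σ : Equiv.Perm ι) :
    (pr F P * (pm F σ).1 * pr F Q).rank = #{j | P (σ j) ∧ Q j} := by
  classical
  have : pr F P * (pm F σ).1 * pr F Q = (pm F σ).1 * pr F fun j => P (σ j) ∧ Q j := by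
    ext i j
    simp only [pr, diagonal_mul, mul_diagonal, pm_apply]
    by_cases h : i = σ j
    · subst h; by_cases h1 : P (σ j) <;> by_cases h2 : Q j <;> simp [h1, h2]
    · simp [h]
  rw [this, rank_mul_eq_right_of_isUnit_det _ _ ((isUnit_iff_isUnit_det _).mp (pm F σ).isUnit), pr, rank_diagonal,
    Fintype.card_subtype]
  congr 1
  ext j
  simp

/-- The joint type of a permutation for two labellings. -/
def jt (b c : ι → κ) (σ : Equiv.Perm ι) (a e : κ) : ℕ := #{j | b (σ j) = a ∧ c j = e}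

omit [DecidableEq ι] in
lemma exists_equiv {X Y : Type*} [Fintype X] [DecidableEq Y] (f : X → Y) (g : ι → Y)
    (h : ∀ y, #{x | f x = y} = #{i | g i = y}) : ∃ e : X ≃ ι, ∀ x, g (e x) = f x :=
  ⟨Equiv.ofFiberEquiv fun y => Fintype.equivOfCardEq (by
    rw [Fintype.card_subtype, Fintype.card_subtype, h]), fun _ => Equiv.ofFiberEquiv_map _ _⟩

lemma jt_eq_iff_Yg (b c : ι → κ) (σ σ' : Equiv.Perm ι) :
    jt b c σ = jt b c σ' ↔ ∃ h ∈ Yg b, ∃ k ∈ Yg c, σ' = h * σ * k := by
  constructor
  · intro h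
    obtain ⟨π, hπ⟩ := exists_equiv (fun j => (b (σ j), c j)) (fun j => (b (σ' j), c j))
      (fun y => by simpa [jt, Prod.ext_iff] using congrFun (congrFun h y.1) y.2)
    simp only [Prod.mk.injEq] at hπ
    refine ⟨σ' * π * σ⁻¹, fun i => by simpa using (hπ (σ⁻¹ i)).1, π⁻¹,
      (Yg c).inv_mem fun i => (hπ i).2, by group⟩
  · rintro ⟨h, hh, k, hk, rfl⟩
    funext a e
    refine (card_bij (fun j _ => k j) ?_ (fun _ _ _ _ h => k.injective h) ?_).symm
    · intro j hj
      simpa [hh _, hk _] using hj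
    · intro j hj
      have := (Yg c).inv_mem hk j
      simp only [Equiv.Perm.coe_inv] at this
      exact ⟨k⁻¹ j, by simpa [hh _, this] using hj, by simp⟩

lemma jt_eq_iff_Par (b c : ι → κ) (σ σ' : Equiv.Perm ι) :
    jt b c σ = jt b c σ' ↔ ∃ h ∈ Par F b, ∃ k ∈ Par F c, pm F σ' = h * pm F σ * k := by
  constructor
  · intro h
    obtain ⟨h, hh, k, hk, rfl⟩ := (jt_eq_iff_Yg b c σ σ').mp h
    exact ⟨_, pm_mem_Par hh, _, pm_mem_Par hk, by rw [map_mul, map_mul]⟩
  · rintro ⟨h, hh, k, hk, e⟩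
    have key : ∀ (P Q : κ → Prop) [DecidablePred P] [DecidablePred Q],
        (∀ x y, x ≤ y → P x → P y) → (∀ x y, x ≤ y → Q y → Q x) →
        #{j | P (b (σ j)) ∧ Q (c j)} = #{j | P (b (σ' j)) ∧ Q (c j)} := by
      intro P Q _ _ hP hQ
      rw [← rank_pm (F := F) (fun i => P (b i)) (fun i => Q (c i)),
        ← rank_pm (F := F) (fun i => P (b i)) (fun i => Q (c i))]
      apply le_antisymm
      · have := rank_le P Q hP hQ ((Par F b).inv_mem hh) ((Par F c).inv_mem hk) (pm F σ').1
        rwa [← Units.val_mul, ← Units.val_mul, show h⁻¹ * pm F σ' * k⁻¹ = pm F σ by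
          rw [e]; group] at this
      · have := rank_le P Q hP hQ hh hk (pm F σ).1
        rwa [← Units.val_mul, ← Units.val_mul, ← e] at this
    have ie : ∀ (σ : Equiv.Perm ι) (a e : κ), jt b c σ a e + #{j | a < b (σ j) ∧ c j ≤ e} +
        #{j | a ≤ b (σ j) ∧ c j < e} =
        #{j | a ≤ b (σ j) ∧ c j ≤ e} + #{j | a < b (σ j) ∧ c j < e} := by
      intro σ a e
      simp only [jt, card_filter, ← sum_add_distrib]
      refine sum_congr rfl fun j _ => ?_
      grind
    funext a e
    have k1 := key (a < ·) (· ≤ e) (fun _ _ h h' => h'.trans_le h) fun _ _ h h' => h.trans h'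
    have k2 := key (a ≤ ·) (· < e) (fun _ _ h h' => h'.trans h) fun _ _ h h' => h.trans_lt h'
    have k3 := key (a ≤ ·) (· ≤ e) (fun _ _ h h' => h'.trans h) fun _ _ h h' => h.trans h'
    have k4 := key (a < ·) (· < e) (fun _ _ h h' => h'.trans_le h) fun _ _ h h' => h.trans_lt h'
    have i1 := ie σ a e
    have i2 := ie σ' a e
    omega

variable [Fintype κ]

/-- Matrices of natural numbers with given row and column sums. -/
def NM (α β : κ → ℕ) : Type _ :=
  {M : κ → κ → ℕ // (∀ a, ∑ e, M a e = α a) ∧ ∀ e, ∑ a, M a e = β e}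

/-- The joint type as a matrix with given margins. -/
def jtM {b c : ι → κ} {α β : κ → ℕ} (hb : ∀ a, #{i | b i = a} = α a)
    (hc : ∀ a, #{i | c i = a} = β a) (σ : Equiv.Perm ι) : NM α β :=
  ⟨jt b c σ, fun a => by
    have : #{i | b i = a} = #{j | b (σ j) = a} :=
      (card_bij (fun j _ => σ j) (by simp) (fun _ _ _ _ h => σ.injective h)
        (fun j hj => ⟨σ⁻¹ j, by simpa using hj, by simp⟩)).symm
    rw [← hb, this, card_eq_sum_card_fiberwise (f := c) (t := univ) (by simp)]
    refine sum_congr rfl fun a _ => ?_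
    rw [jt, filter_filter], fun e => by
    rw [← hc, card_eq_sum_card_fiberwise (f := fun j => b (σ j)) (t := univ) (by simp)]
    refine sum_congr rfl fun a _ => ?_
    rw [jt, filter_filter]
    simp only [and_comm]⟩

lemma jtM_surjective {b c : ι → κ} {α β : κ → ℕ} (hb : ∀ a, #{i | b i = a} = α a)
    (hc : ∀ a, #{i | c i = a} = β a) : Function.Surjective (jtM hb hc) := by
  rintro ⟨M, h1, h2⟩
  let X := Σ p : κ × κ, Fin (M p.1 p.2)
  have hX : ∀ (P : κ × κ → Prop) [DecidablePred P],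
      #{x : X | P x.1} = ∑ p with P p, M p.1 p.2 := by
    intro P _
    rw [card_filter, Fintype.sum_sigma, sum_filter]
    refine sum_congr rfl fun p _ => ?_
    split_ifs <;> simp
  obtain ⟨u, hu⟩ := exists_equiv (fun x : X => x.1.1) b fun a => by
    rw [hX (fun p => p.1 = a), hb, ← h1, sum_filter, Fintype.sum_prod_type]
    simp
  obtain ⟨v, hv⟩ := exists_equiv (fun x : X => x.1.2) c fun a => by
    rw [hX (fun p => p.2 = a), hc, ← h2, sum_filter, Fintype.sum_prod_type]
    simp
  refine ⟨v.symm.trans u, Subtype.ext ?_⟩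
  funext a e
  change jt b c _ a e = M a e
  have := hX fun p => p = (a, e)
  rw [sum_filter, sum_ite_eq', if_pos (mem_univ _)] at this
  rw [← this, jt]
  refine (card_bij (fun x _ => v x) ?_ (fun _ _ _ _ h => v.injective h) ?_).symm
  · intro x hx
    simpa [hu, hv, Prod.ext_iff] using hx
  · intro j hj
    refine ⟨v.symm j, ?_, by simp⟩
    have h3 := hv (v.symm j)
    simp only [Equiv.apply_symm_apply] at h3
    simpa [hu, h3, Prod.ext_iff] using hj

theorem inner_Yg {b c : ι → κ} {α β : κ → ℕ} (hb : ∀ a, #{i | b i = a} = α a)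
    (hc : ∀ a, #{i | c i = a} = β a) :
    classInner (fixedPointCharacter (Yg b)) (fixedPointCharacter (Yg c)) = Nat.card (NM α β) :=
  inner_eq_card _ _ id (jtM hb hc) (fun g => ⟨g, 1, one_mem _, 1, one_mem _, by simp⟩)
    (fun w w' => Subtype.ext_iff.trans (jt_eq_iff_Yg b c w w')) (jtM_surjective hb hc)

end

/-- The Bruhat decomposition of `GL_n`. -/
theorem bruhat {F : Type*} [Field F] {n : ℕ} (g : GL (Fin n) F) :
    ∃ σ, ∃ h ∈ Par F (id : Fin n → Fin n), ∃ k ∈ Par F (id : Fin n → Fin n), g = h * pm F σ * k := by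
  rcases n with _ | m
  · exact ⟨1, 1, one_mem _, 1, one_mem _, Subsingleton.elim _ _⟩
  have mon : ∀ x ∈ (TA.sl m F).N, ∃ σ : Equiv.Perm (Fin (m + 1)), ∀ i j, x.1 i j ≠ 0 → i = σ j := by
    have h0 : ∀ r c, c ≠ 0 → ∃ σ : Equiv.Perm (Fin (m + 1)), ∀ i j,
        ((TA.sl m F).n r c).1 i j ≠ 0 → i = σ j := by
      rintro ⟨⟨a, b⟩, h⟩ c hc
      refine ⟨Equiv.swap a b, fun i j hij => ?_⟩
      have e : ((TA.sl m F).n ⟨(a, b), h⟩ c).1 =
          1 - single a a 1 - single b b 1 + c • single a b 1 - c⁻¹ • single b a 1 := by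
        simp only [H38.PreElts.n, Matrix.SpecialLinearGroup.coe_mul, TA.coe_x, TA.rs, mul_add,
          add_mul, mul_one, one_mul, smul_mul_assoc, mul_smul_comm,
          single_mul_single_of_ne _ _ _ _ h, single_mul_single_of_ne _ _ _ _ h.symm, smul_zero,
          add_zero, single_mul_single_same, smul_add]
        match_scalars <;> field_simp <;> ring
      rw [e] at hij
      simp only [Matrix.add_apply, Matrix.sub_apply, one_apply, Matrix.smul_apply, single_apply,
        smul_eq_mul, Equiv.swap_apply_def] at hij ⊢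
      simp only [ne_eq] at h
      grind
    intro x hx
    induction hx using Subgroup.closure_induction'' with
    | one => exact ⟨1, fun i j h => by by_contra e; simp [one_apply, e] at h; exact e h⟩
    | mem x hx => obtain ⟨r, c, hc, rfl⟩ := hx; exact h0 r c hc
    | inv_mem x hx =>
      obtain ⟨r, c, hc, rfl⟩ := hx
      rw [← H38.PreElts.n_neg]; exact h0 r _ (neg_ne_zero.2 hc)
    | mul x y _ _ hx hy =>
      obtain ⟨σ, hσ⟩ := hx
      obtain ⟨τ, hτ⟩ := hy
      refine ⟨σ * τ, fun i j h => ?_⟩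
      rw [Matrix.SpecialLinearGroup.coe_mul, mul_apply] at h
      obtain ⟨k, -, hk⟩ := exists_ne_zero_of_sum_ne_zero h
      rw [hσ i k (left_ne_zero_of_mul hk), hτ k j (right_ne_zero_of_mul hk)]; rfl
  let d : GL (Fin (m + 1)) F := Matrix.GeneralLinearGroup.mkOfDetNeZero
    (diagonal (Pi.mulSingle 0 g.1.det)) (by simpa [det_diagonal] using g.det_ne_zero)
  have hd : d ∈ Par F id := blockTriangular_diagonal _
  have hs : (g * d⁻¹).1.det = 1 := by
    have : (g * d⁻¹).1.det * d.1.det = g.1.det := by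
      rw [← det_mul, ← Units.val_mul, inv_mul_cancel_right]
    have h2 : d.1.det = g.1.det := by simp [d, det_diagonal]
    rw [h2] at this
    exact mul_right_cancel₀ g.det_ne_zero (this.trans (one_mul _).symm)
  obtain ⟨b, hb, x, w, hx, u, hu, e⟩ := H38.Elts.bruhat (E := TA.sl m F) (g := ⟨_, hs⟩)
    (by rw [TA.top]; trivial)
  obtain ⟨σ, hσ⟩ := mon x hx.mem_N
  have hu' : u ∈ TA.upT m F := TA.B_le_upT
    (Subgroup.mem_sup_left ((TA.sl m F).mem_XS_mono hu fun r hr => hr.1))
  have hx' : (pm F σ)⁻¹ * Matrix.SpecialLinearGroup.toGL x ∈ Par F id := by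
    intro i j hij
    rw [← map_inv, Units.val_mul, pm_mul, inv_inv]
    by_contra h
    exact hij.ne' (σ.injective (hσ _ _ h))
  refine ⟨σ, Matrix.SpecialLinearGroup.toGL b, TA.B_le_upT hb, _,
    mul_mem (mul_mem hx' (a := _) (b := Matrix.SpecialLinearGroup.toGL u) hu') hd, ?_⟩
  have e2 : g * d⁻¹ = Matrix.SpecialLinearGroup.toGL (b * x * u) := by
    rw [← e]; exact Units.ext rfl
  rw [map_mul, map_mul, mul_inv_eq_iff_eq_mul] at e2
  rw [e2]; group

theorem inner_Par {F : Type*} [Field F] {n : ℕ} [Fintype (GL (Fin n) F)] {κ : Type*}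
    [LinearOrder κ] [Fintype κ] {b c : Fin n → κ} (mb : Monotone b) (mc : Monotone c)
    {α β : κ → ℕ} (hb : ∀ a, #{i | b i = a} = α a) (hc : ∀ a, #{i | c i = a} = β a) :
    classInner (fixedPointCharacter (Par F b)) (fixedPointCharacter (Par F c)) =
      Nat.card (NM α β) := by
  refine inner_eq_card _ _ (pm F) (jtM hb hc) (fun g => ?_)
    (fun w w' => Subtype.ext_iff.trans (jt_eq_iff_Par b c w w')) (jtM_surjective hb hc)
  obtain ⟨σ, h, hh, k, hk, e⟩ := bruhat g
  exact ⟨σ, h, fun i j hij => hh (mb.reflect_lt hij), k, fun i j hij => hk (mc.reflect_lt hij), e⟩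

end H64.GC
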