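import Mathlib
import Cfsg.Agent.Lib.GLChar.Cosets

/-!
The Jacobi–Trudi identity and the orthogonality of the alternating sums of the numbers of
matrices with given margins.
-/

set_option autoImplicit false

namespace H64.GC

open Finset Matrix

variable {n : ℕ}

section

open Polynomial

variable {R : Type*} [CommRing R] (x : Fin n → R)

/-- Complete homogeneous symmetric functions. -/
noncomputable def hh (m : ℕ) : R := PowerSeries.coeff m (∏ k, PowerSeries.mk fun a => x k ^ a)

/-- The product of the `1 - x l * X` over `l ≠ k`. -/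
noncomputable def ee (k : Fin n) : R[X] := ∏ l ∈ univ.erase k, (1 - C (x l) * X)

lemma natDegree_ee (k : Fin n) : (ee x k).natDegree < n := by
  have h1 : (ee x k).natDegree ≤ ∑ _l ∈ univ.erase k, 1 :=
    (natDegree_prod_le _ _).trans (sum_le_sum fun l _ => by compute_degree)
  simp only [sum_const, card_erase_of_mem (mem_univ k), card_univ, Fintype.card_fin, smul_eq_mul,
    mul_one] at h1
  have := k.2
  omega

lemma mk_mul (r : R) : (PowerSeries.mk fun a => r ^ a) * (1 - PowerSeries.C r * PowerSeries.X) = 1 := by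
  have := congrArg (PowerSeries.rescale r) (PowerSeries.mk_one_mul_one_sub_eq_one R)
  simpa [PowerSeries.rescale_mk, PowerSeries.rescale_X] using this

lemma sum_ee_hh (m : ℕ) (k : Fin n) :
    ∑ i : Fin n, (ee x k).coeff i * (if (i : ℕ) ≤ m then hh x (m - i) else 0) = x k ^ m := by
  have h1 : (ee x k : PowerSeries R) * ∏ k, (PowerSeries.mk fun a => x k ^ a) =
      PowerSeries.mk fun a => x k ^ a := by
    have : (ee x k : PowerSeries R) = ∏ l ∈ univ.erase k,
        (1 - PowerSeries.C (x l) * PowerSeries.X) := by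
      rw [ee, ← Polynomial.coeToPowerSeries.ringHom_apply, map_prod]
      simp
    rw [this, ← mul_prod_erase _ _ (mem_univ k), mul_left_comm, ← prod_mul_distrib,
      prod_eq_one fun l _ => by rw [mul_comm, mk_mul], mul_one]
  have h2 := congrArg (PowerSeries.coeff m) h1
  rw [PowerSeries.coeff_mk, PowerSeries.coeff_mul,
    Nat.sum_antidiagonal_eq_sum_range_succ_mk] at h2
  rw [← h2, Fin.sum_univ_eq_sum_range
    (fun i => (ee x k).coeff i * (if i ≤ m then hh x (m - i) else 0)) n]
  simp only [Polynomial.coeff_coe]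
  rw [sum_subset (s₂ := range (n + m + 1)) (range_mono (by omega)),
    ← sum_subset (s₁ := range m.succ) (range_mono (by omega))]
  · exact sum_congr rfl fun i hi => by rw [if_pos (by simpa [Nat.lt_succ_iff] using hi)]; rfl
  · intro i _ hi
    rw [if_neg (by simpa [Nat.lt_succ_iff] using hi), mul_zero]
  · intro i _ hi
    rw [coeff_eq_zero_of_natDegree_lt ((natDegree_ee x k).trans_le (by simpa using hi)), zero_mul]

/-- The Jacobi–Trudi matrix. -/
noncomputable def Hm (l : Fin n → ℕ) : Matrix (Fin n) (Fin n) R :=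
  of fun i e => if (i : ℕ) ≤ l e then hh x (l e - i) else 0

/-- The alternant matrix. -/
def Am (l : Fin n → ℕ) : Matrix (Fin n) (Fin n) R := of fun k e => x k ^ l e

lemma Am_eq (l : Fin n → ℕ) : Am x l = (of fun k (i : Fin n) => (ee x k).coeff i) * Hm x l := by
  ext k e
  simp only [Am, Hm, mul_apply, of_apply, sum_ee_hh]

lemma det_Hm_id : (Hm x fun i => i).det = 1 := by
  rw [det_of_upperTriangular]
  · simp [Hm, hh]
  · intro i j h
    simp only [Hm, of_apply]
    exact if_neg (not_le.mpr h)

theorem jacobi_trudi (l : Fin n → ℕ) : (Am x l).det = (Am x fun i => i).det * (Hm x l).det := by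
  rw [Am_eq, Am_eq, det_mul, det_mul, det_Hm_id, mul_one]

end

open MvPolynomial

/-- A function as a finitely supported function. -/
noncomputable abbrev fs (f : Fin n → ℕ) : Fin n →₀ ℕ := Finsupp.equivFunOnFinite.symm f

lemma prod_X_pow' (f : Fin n → ℕ) :
    ∏ k, (X k : MvPolynomial (Fin n) ℤ) ^ f k = monomial (fs f) 1 := by
  rw [prod_X_pow]
  congr 2
  ext; simp

lemma det_Am (l : Fin n → ℕ) : (Am (X : Fin n → MvPolynomial (Fin n) ℤ) l).det =
    ∑ σ : Equiv.Perm (Fin n), monomial (fs fun k => l (σ k)) (Equiv.Perm.sign σ : ℤ) := by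
  rw [← det_transpose, det_apply']
  refine sum_congr rfl fun σ _ => ?_
  simp only [Am, transpose_apply, of_apply, prod_X_pow']
  rw [← eq_intCast (C : ℤ →+* MvPolynomial (Fin n) ℤ), C_mul_monomial, mul_one]

lemma coeff_prod_hh (α β : Fin n → ℕ) :
    coeff (fs α) (∏ e, hh (X : Fin n → MvPolynomial (Fin n) ℤ) (β e)) = Nat.card (NM α β) := by
  have h1 : ∀ m, hh (X : Fin n → MvPolynomial (Fin n) ℤ) m =
      ∑ l ∈ finsuppAntidiag univ m, monomial l 1 := by
    intro m
    rw [hh, PowerSeries.coeff_prod]
    refine sum_congr rfl fun l _ => ?_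
    simp [prod_X_pow']
  simp only [h1, prod_univ_sum, ← monomial_sum_one, coeff_sum, coeff_monomial, sum_boole]
  congr 1
  rw [← Nat.card_eq_finsetCard]
  refine Nat.card_congr ⟨fun M => ⟨fun a e => M.1 e a, fun a => ?_, fun e => ?_⟩,
    fun M => ⟨fun e => fs fun a => M.1 a e, ?_⟩, fun M => by ext; simp, fun M => Subtype.ext (by ext; simp)⟩
  · have := congrArg (fun f => f a) (mem_filter.mp M.2).2
    simpa [Finsupp.finset_sum_apply] using this
  · have := Fintype.mem_piFinset.mp (mem_filter.mp M.2).1 e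
    exact (mem_finsuppAntidiag.mp this).1
  · simp only [mem_filter, Fintype.mem_piFinset, mem_finsuppAntidiag, subset_univ, and_true]
    refine ⟨fun e => by simpa using M.2.2 e, ?_⟩
    ext a
    simpa [Finsupp.finset_sum_apply] using M.2.1 a

/-- Orthogonality of the alternating sums. -/
theorem alt_sum {l l' : Fin n → ℕ} (h : StrictMono l) (h' : StrictMono l') :
    ∑ κ : Equiv.Perm (Fin n), ∑ κ' : Equiv.Perm (Fin n),
      (if ∀ i, (κ i : ℕ) ≤ l i then if ∀ i, (κ' i : ℕ) ≤ l' i then
        (Equiv.Perm.sign κ : ℤ) * (Equiv.Perm.sign κ' : ℤ) *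
          (Nat.card (NM (fun i => l i - κ i) fun i => l' i - κ' i) : ℤ) else 0 else 0) =
      if l = l' then 1 else 0 := by
  have h1 := congrArg (coeff (fs l)) (jacobi_trudi (X : Fin n → MvPolynomial (Fin n) ℤ) l')
  rw [det_Am, det_Am, sum_mul, coeff_sum, coeff_sum, sum_eq_single 1] at h1
  · simp only [coeff_monomial, Equiv.Perm.coe_one, id_eq, EmbeddingLike.apply_eq_iff_eq,
      Equiv.Perm.sign_one, Units.val_one] at h1
    rw [if_congr eq_comm rfl rfl, h1]
    refine sum_congr rfl fun κ _ => ?_
    rw [coeff_monomial_mul', det_apply', coeff_sum]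
    have e : (fs fun k => (κ k : ℕ)) ≤ fs l ↔ ∀ i, (κ i : ℕ) ≤ l i := Iff.rfl
    rw [if_congr e rfl rfl]
    split_ifs with hκ
    · rw [mul_sum]
      refine sum_congr rfl fun κ' _ => ?_
      rw [← eq_intCast (C : ℤ →+* MvPolynomial (Fin n) ℤ), coeff_C_mul]
      simp only [Hm, of_apply, prod_ite_zero, mem_univ, forall_const]
      split_ifs
      · rw [← coeff_prod_hh, mul_assoc]
        congr 3
        ext; simp
      · simp
    · simp
  · intro σ _ hσ
    rw [coeff_monomial, if_neg]
    intro e
    have e' : (fun k => l' (σ k)) = l := Finsupp.equivFunOnFinite.symm.injective e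
    have hs : StrictMono σ := fun a b hab => h'.lt_iff_lt.mp (by
      have := h hab
      rwa [← e'] at this)
    exact hσ (Equiv.ext fun i => hs.apply_eq)
  · simp

end H64.GC
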